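import Cfsg.Agent.Known.AutPSL2
import Cfsg.Agent.Classical.SL
import Mathlib.GroupTheory.Sylow
import Mathlib.FieldTheory.Finite.Basic

/-!
Facts on `SL(2, q)`, `q` odd: normal subgroups, elements central modulo the centre.
-/

set_option autoImplicit false
set_option linter.unusedSectionVars false

namespace Cfsg.SLPair

open Matrix Cfsg.Lib.Known.AutPSL2

variable {F : Type*} [Field F] [Fintype F]

local notation "S" => Matrix.SpecialLinearGroup (Fin 2) F

theorem card_sl : Nat.card S = (Fintype.card F ^ 2 - 1) * Fintype.card F := by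
  have h := Cfsg.Lib.Classical.card_SL_mul_eq_prod (F := F) (n := 2) (by norm_num)
  rw [Fin.prod_univ_two] at h
  simp only [Fin.val_zero, Fin.val_one, pow_zero, pow_one] at h
  set q := Fintype.card F
  have hq : 2 ≤ q := Fintype.one_lt_card
  have h2 : q ^ 2 - q = (q - 1) * q := by rw [Nat.sub_mul, one_mul, pow_two]
  rw [h2, mul_comm (q ^ 2 - 1), mul_assoc, mul_comm q] at h
  exact Nat.eq_of_mul_eq_mul_left (by omega) h

theorem card_sl_inj {F' : Type*} [Field F'] [Fintype F']
    (h : Nat.card (Matrix.SpecialLinearGroup (Fin 2) F) =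
      Nat.card (Matrix.SpecialLinearGroup (Fin 2) F')) : Fintype.card F = Fintype.card F' := by
  rw [card_sl, card_sl] at h
  have key : ∀ a b : ℕ, 2 ≤ a → a < b → (a ^ 2 - 1) * a < (b ^ 2 - 1) * b := by
    intro a b ha hab
    have h1 : a ^ 2 < b ^ 2 := Nat.pow_lt_pow_left hab (by norm_num)
    have h2 : 1 ≤ a ^ 2 := Nat.one_le_pow _ _ (by omega)
    have h3 : a ^ 2 - 1 < b ^ 2 - 1 := by omega
    exact (Nat.mul_le_mul_left _ hab.le).trans_lt (Nat.mul_lt_mul_of_pos_right h3 (by omega))
  rcases lt_trichotomy (Fintype.card F) (Fintype.card F') with hlt | he | hlt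
  · exact absurd h (key _ _ Fintype.one_lt_card hlt).ne
  · exact he
  · exact absurd h.symm (key _ _ Fintype.one_lt_card hlt).ne

theorem two_ne (hF : Odd (Fintype.card F)) : (2 : F) ≠ 0 := by
  intro h
  have h2 : ringChar F = 2 := by
    rcases (Nat.dvd_prime Nat.prime_two).1 (ringChar.dvd (R := F) (x := 2) (by exact_mod_cast h)) with e | e
    · exact absurd e (CharP.ringChar_ne_one)
    · exact e
  exact (Nat.not_even_iff_odd.2 hF) (FiniteField.even_card_iff_char_two.1 h2 |> Nat.even_iff.2)

/-- The transvections generate. -/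
theorem eq_top_of_unipotents (H : Subgroup S) (hu : ∀ x : F, uS x ∈ H) (hv : ∀ x : F, vS x ∈ H) : H = ⊤ := by
  refine Cfsg.Lib.Classical.eq_top_of_transvection_mem _ fun i j hij c => ?_
  fin_cases i <;> fin_cases j
  · exact absurd rfl hij
  · convert hu c using 2
    refine sl_ext ?_
    rw [Matrix.SpecialLinearGroup.transvection_coe, coe_uS]
    ext r s; fin_cases r <;> fin_cases s <;> simp [Matrix.single, Matrix.transvection]
  · convert hv c using 2
    refine sl_ext ?_
    rw [Matrix.SpecialLinearGroup.transvection_coe, coe_vS]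
    ext r s; fin_cases r <;> fin_cases s <;> simp [Matrix.single, Matrix.transvection]
  · exact absurd rfl hij

/-- The diagonal element. -/
def dS (t : Fˣ) : S := ⟨!![(t : F), 0; 0, ((t⁻¹ : Fˣ) : F)], by simp [det_fin_two]⟩

/-- The Weyl element. -/
def wS : S := ⟨!![0, -1; 1, 0], by simp [det_fin_two]⟩

theorem dS_conj (t : Fˣ) (x : F) : dS t * uS x * (dS t)⁻¹ = uS ((t : F) ^ 2 * x) := by
  refine sl_ext ?_
  rw [conj_uS, coe_uS]
  simp [dS]

theorem wS_conj (x : F) : wS * uS x * wS⁻¹ = vS (-x) := by
  refine sl_ext ?_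
  rw [conj_uS, coe_vS]
  simp [wS]

theorem uS_zero : uS (0 : F) = 1 := sl_ext (by rw [coe_uS, cone]; simp [one_fin_two])

/-- The upper unitriangular subgroup. -/
def uGroup : Subgroup S :=
  MonoidHom.range
    ({ toFun := fun x => uS x.toAdd
       map_one' := uS_zero
       map_mul' := fun x y => uS_add _ _ } : Multiplicative F →* S)

theorem card_uGroup : Nat.card (uGroup (F := F)) = Fintype.card F := by
  rw [uGroup, ← Nat.card_congr (MonoidHom.ofInjective (f := ({ toFun := fun x => uS x.toAdd
                                                               map_one' := uS_zero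
                                                               map_mul' := fun x y => uS_add _ _ } : Multiplicative F →* S))
    (fun x y h => by
      have := congrArg (fun M : S => (M : Matrix (Fin 2) (Fin 2) F) 0 1) h
      simpa [coe_uS] using this)).toEquiv,
    Nat.card_congr Multiplicative.toAdd, Nat.card_eq_fintype_card]

/-- A normal subgroup containing a non-trivial unipotent is everything. -/
theorem eq_top_of_uS (hF : Odd (Fintype.card F)) (N : Subgroup S) [hN : N.Normal] {x : F} (hx : x ≠ 0)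
    (h : uS x ∈ N) : N = ⊤ := by
  have h2 := two_ne hF
  have hsq : ∀ t : F, uS (t ^ 2 * x) ∈ N := by
    intro t
    by_cases ht : t = 0
    · rw [ht, zero_pow two_ne_zero, zero_mul, uS_zero]; exact one_mem _
    · have := hN.conj_mem _ h (dS (Units.mk0 t ht))
      rwa [dS_conj] at this
  have hu : ∀ y : F, uS y ∈ N := by
    intro y
    set a : F := (y / x + 1) / 2 with ha
    set b : F := (y / x - 1) / 2 with hb
    have hy : a ^ 2 * x = y + b ^ 2 * x := by
      rw [ha, hb]
      field_simp
      ring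
    have h1 := hsq a
    rw [hy, uS_add, N.mul_mem_cancel_right (hsq b)] at h1
    exact h1
  refine eq_top_of_unipotents N hu fun y => ?_
  have := hN.conj_mem _ (hu (-y)) wS
  rwa [wS_conj, neg_neg] at this

/-- A normal subgroup of order divisible by the characteristic is everything. -/
theorem eq_top_of_dvd (hF : Odd (Fintype.card F)) {p : ℕ} [Fact p.Prime] [CharP F p] (N : Subgroup S)
    [hN : N.Normal] (h : p ∣ Nat.card N) : N = ⊤ := by
  classical
  obtain ⟨f, hp, hf⟩ := FiniteField.card F p
  set q := Fintype.card F with hq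
  have hU : Nat.card (uGroup (F := F)) = p ^ (f : ℕ) := card_uGroup.trans hf
  have hco : ¬ p ∣ q ^ 2 - 1 := by
    intro hd
    have h1 : p ∣ q ^ 2 := dvd_pow (hf ▸ dvd_pow_self p f.pos.ne') two_ne_zero
    have h2 : 1 ≤ q ^ 2 := Nat.one_le_pow _ _ Fintype.card_pos
    have h3 := Nat.dvd_sub h1 hd
    rw [Nat.sub_sub_self h2, Nat.dvd_one] at h3
    exact hp.ne_one h3
  have hfac : (Nat.card S).factorization p = f := by
    rw [card_sl, ← hq, Nat.factorization_mul (fun e => hco (by rw [e]; exact dvd_zero p)) Fintype.card_pos.ne',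
      Finsupp.add_apply, Nat.factorization_eq_zero_of_not_dvd hco, zero_add, show Fintype.card F = p ^ (f : ℕ) from hf,
      hp.factorization_pow, Finsupp.single_eq_same]
  obtain ⟨g, hg⟩ := exists_prime_orderOf_dvd_card' p h
  obtain ⟨P, hP⟩ : ∃ P : Sylow p S, (P : Subgroup S) = uGroup :=
    ⟨Sylow.ofCard uGroup (by rw [hfac]; exact hU), rfl⟩
  obtain ⟨R, hR⟩ := (IsPGroup.of_card (n := 1) (show Nat.card (Subgroup.zpowers (g : S)) = p ^ 1 by
    rw [Nat.card_zpowers, Subgroup.orderOf_coe, hg, pow_one])).exists_le_sylow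
  obtain ⟨c, hc⟩ := MulAction.exists_smul_eq S R P
  have hm : c * (g : S) * c⁻¹ ∈ (P : Subgroup S) := by
    rw [← hc, Sylow.coe_subgroup_smul]
    exact ⟨g, hR (Subgroup.mem_zpowers _), rfl⟩
  rw [hP] at hm
  obtain ⟨x, hx⟩ := hm
  refine eq_top_of_uS hF N (x := x.toAdd) ?_ ?_
  · intro h0
    have h1 : c * (g : S) * c⁻¹ = 1 := by
      rw [← hx]
      show uS x.toAdd = 1
      rw [h0, uS_zero]
    rw [conj_eq_one_iff, OneMemClass.coe_eq_one] at h1
    rw [h1, orderOf_one] at hg
    exact hp.ne_one hg.symm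
  · have := hN.conj_mem _ g.2 c
    rw [← hx] at this
    exact this

/-- Two proper normal subgroups do not generate. -/
theorem sup_ne_top (hF : Odd (Fintype.card F)) (N K : Subgroup S) [N.Normal] [K.Normal] (hN : N ≠ ⊤)
    (hK : K ≠ ⊤) : N ⊔ K ≠ ⊤ := by
  intro h
  haveI : Fact (ringChar F).Prime := ⟨CharP.char_is_prime F _⟩
  have hp : ringChar F ∣ Nat.card S := by
    rw [card_sl]
    obtain ⟨f, -, hf⟩ := FiniteField.card F (ringChar F)
    exact dvd_mul_of_dvd_right (hf ▸ dvd_pow_self _ f.pos.ne') _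
  have hdvd : Nat.card S ∣ Nat.card N * Nat.card K := by
    refine ⟨Nat.card (N ⊓ K : Subgroup S), ?_⟩
    have h1 : Nat.card (N ⊔ K : Subgroup S) = Nat.card S := by rw [h, Subgroup.card_top]
    have h2 := Subgroup.card_mul_index (N.subgroupOf (N ⊔ K : Subgroup S))
    rw [Nat.card_congr (Subgroup.subgroupOfEquivOfLe (le_sup_left : N ≤ N ⊔ K)).toEquiv, h1,
      ← Subgroup.relIndex, Subgroup.relIndex_sup_left] at h2
    have h3 := Subgroup.card_mul_index (N.subgroupOf K)
    rw [← Subgroup.relIndex] at h3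
    have h4 : Nat.card (N.subgroupOf K) = Nat.card (N ⊓ K : Subgroup S) := by
      rw [← Subgroup.inf_subgroupOf_right]
      exact Nat.card_congr (Subgroup.subgroupOfEquivOfLe inf_le_right).toEquiv
    rw [h4] at h3
    rw [← h2, ← h3]
    ring
  rcases (Fact.out : (ringChar F).Prime).dvd_mul.1 (hp.trans hdvd) with e | e
  · exact hN (eq_top_of_dvd hF N e)
  · exact hK (eq_top_of_dvd hF K e)

/-- An element commuting with everything up to the centre is central. -/
theorem central_of_comm (hF : Odd (Fintype.card F)) (a : S)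
    (h : ∀ g : S, a * g * a⁻¹ * g⁻¹ ∈ Subgroup.center S) : a ∈ Subgroup.center S := by
  obtain ⟨p, hp⟩ : ∃ p, CharP F p := ⟨ringChar F, inferInstance⟩
  haveI := hp
  haveI : Fact p.Prime := ⟨CharP.char_is_prime F p⟩
  have hodd : Odd p := by
    refine (Fact.out : p.Prime).odd_of_ne_two ?_
    rintro rfl
    exact two_ne hF (by simpa using CharP.cast_eq_zero F 2)
  have hcard : Nat.card (Subgroup.center S) ∣ 2 := by
    rw [Cfsg.Lib.Classical.card_center_SL, Fintype.card_fin]
    exact Nat.gcd_dvd_left _ _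
  have hord : ∀ g : S, g ^ p = 1 → a * g = g * a := by
    intro g hg
    set z := a * g * a⁻¹ * g⁻¹ with hz
    have hzc := Subgroup.mem_center_iff.1 (h g)
    have h1 : (a * g * a⁻¹) = z * g := by rw [hz]; group
    have h2 : z ^ p = 1 := by
      have hcm : Commute z g := (hzc g).symm
      have h3 : (a * g * a⁻¹) ^ p = 1 := by rw [conj_pow, hg, mul_one, mul_inv_cancel]
      rw [h1, hcm.mul_pow, hg, mul_one] at h3
      exact h3
    have h4 : z ^ 2 = 1 := by
      have h5 := (orderOf_dvd_natCard (⟨z, h g⟩ : Subgroup.center S)).trans hcard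
      rw [Subgroup.orderOf_mk] at h5
      exact orderOf_dvd_iff_pow_eq_one.1 h5
    have h5 : z = 1 := by
      obtain ⟨t, ht⟩ := hodd
      rwa [ht, pow_succ, pow_mul, h4, one_pow, one_mul] at h2
    rw [h5, one_mul] at h1
    exact mul_inv_eq_iff_eq_mul.1 h1
  have hpow : ∀ (x : F) (n : ℕ), (uS x) ^ n = uS ((n : F) * x) ∧ (vS x) ^ n = vS ((n : F) * x) := by
    intro x n
    induction n with
    | zero =>
      refine ⟨by rw [pow_zero, Nat.cast_zero, zero_mul, uS_zero], ?_⟩
      rw [pow_zero, Nat.cast_zero, zero_mul]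
      exact sl_ext (by rw [coe_vS, cone]; simp [one_fin_two])
    | succ n ih =>
      rw [pow_succ, pow_succ, ih.1, ih.2, ← uS_add, ← vS_add, Nat.cast_succ, add_mul, one_mul]
      exact ⟨rfl, rfl⟩
  have htop := eq_top_of_unipotents (Subgroup.centralizer ({a} : Set S))
    (fun x => Subgroup.mem_centralizer_singleton_iff.2 (hord _ (by
      rw [(hpow x p).1, CharP.cast_eq_zero, zero_mul, uS_zero])).symm)
    (fun x => Subgroup.mem_centralizer_singleton_iff.2 (hord _ (by
      rw [(hpow x p).2, CharP.cast_eq_zero, zero_mul]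
      exact sl_ext (by rw [coe_vS, cone]; simp [one_fin_two]))).symm)
  refine Subgroup.mem_center_iff.2 fun g => ?_
  exact Subgroup.mem_centralizer_singleton_iff.1 (htop ▸ Subgroup.mem_top g)

theorem card_center (hF : Odd (Fintype.card F)) : Nat.card (Subgroup.center S) = 2 := by
  rw [Cfsg.Lib.Classical.card_center_SL, Fintype.card_fin, Nat.card_eq_fintype_card]
  obtain ⟨t, ht⟩ := hF
  rw [ht, Nat.add_sub_cancel, Nat.gcd_mul_right_right]

end Cfsg.SLPair
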