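import Cfsg.Agent.Known.SLPair.Facts

/-!
A central product of two copies of `SL(2, q)` determines its factors.
-/

set_option autoImplicit false
set_option linter.unusedSectionVars false

namespace Cfsg.SLPair

open Subgroup

variable {G : Type*} [Group G] [Finite G]

/-- The properties of `SL(2, q)` used. -/
structure Factor (L : Subgroup G) (j : G) : Prop where
  join : ∀ A B : Subgroup G, A ≤ L → B ≤ L → (∀ l ∈ L, ∀ a ∈ A, l * a * l⁻¹ ∈ A) →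
    (∀ l ∈ L, ∀ b ∈ B, l * b * l⁻¹ ∈ B) → (∀ l ∈ L, ∃ a ∈ A, ∃ b ∈ B, l = a * b) → A = L ∨ B = L
  central : ∀ a ∈ L, (∀ l ∈ L, a * l * a⁻¹ * l⁻¹ ∈ zpowers j) → a ∈ zpowers j

theorem factor {F : Type*} [Field F] [Fintype F] (hF : Odd (Fintype.card F)) {L : Subgroup G}
    (e : ↥L ≃* Matrix.SpecialLinearGroup (Fin 2) F) {j : G} (hj : orderOf j = 2) (hjL : j ∈ L)
    (hjc : ∀ l ∈ L, l * j = j * l) : Factor L j := by
  constructor
  · intro A B hAL hBL hA hB hAB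
    set N := (A.subgroupOf L).map e.toMonoidHom with hN
    set K := (B.subgroupOf L).map e.toMonoidHom with hK
    have hA' : (A.subgroupOf L).Normal := ⟨fun a ha l => hA (l : G) l.2 (a : G) ha⟩
    have hB' : (B.subgroupOf L).Normal := ⟨fun a ha l => hB (l : G) l.2 (a : G) ha⟩
    haveI : N.Normal := Subgroup.Normal.map hA' _ e.surjective
    haveI : K.Normal := Subgroup.Normal.map hB' _ e.surjective
    have htop : N ⊔ K = ⊤ := by
      rw [eq_top_iff]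
      intro g _
      obtain ⟨a, ha, b, hb, hab⟩ := hAB (e.symm g) (e.symm g).2
      have : e.symm g = (⟨a, hAL ha⟩ : L) * ⟨b, hBL hb⟩ := Subtype.ext hab
      rw [← e.apply_symm_apply g, this, map_mul]
      exact mul_mem (mem_sup_left ⟨⟨a, hAL ha⟩, ha, rfl⟩) (mem_sup_right ⟨⟨b, hBL hb⟩, hb, rfl⟩)
    by_contra! hne
    refine sup_ne_top hF N K ?_ ?_ htop
    · intro h
      refine hne.1 (le_antisymm hAL fun l hl => ?_)
      obtain ⟨a, ha, he⟩ := (h ▸ mem_top (e ⟨l, hl⟩) : e ⟨l, hl⟩ ∈ N)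
      have hla : (⟨l, hl⟩ : L) = a := e.injective he.symm
      have : l = (a : G) := congrArg Subtype.val hla
      rw [this]; exact ha
    · intro h
      refine hne.2 (le_antisymm hBL fun l hl => ?_)
      obtain ⟨a, ha, he⟩ := (h ▸ mem_top (e ⟨l, hl⟩) : e ⟨l, hl⟩ ∈ K)
      have hla : (⟨l, hl⟩ : L) = a := e.injective he.symm
      have : l = (a : G) := congrArg Subtype.val hla
      rw [this]; exact ha
  · intro a ha h
    have hjZ : e ⟨j, hjL⟩ ∈ center (Matrix.SpecialLinearGroup (Fin 2) F) := mem_center_iff.2 fun g => by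
      obtain ⟨l, rfl⟩ := e.surjective g
      rw [← map_mul, ← map_mul]
      exact congrArg e (Subtype.ext (hjc l l.2))
    have heq : zpowers (e ⟨j, hjL⟩) = center (Matrix.SpecialLinearGroup (Fin 2) F) := by
      refine eq_of_le_of_card_ge (zpowers_le.2 hjZ) ?_
      rw [card_center hF, Nat.card_zpowers, MulEquiv.orderOf_eq, Subgroup.orderOf_mk, hj]
    have hmem : ∀ b : L, (b : G) ∈ zpowers j → e b ∈ center (Matrix.SpecialLinearGroup (Fin 2) F) := by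
      intro b hb
      obtain ⟨i, hi⟩ := mem_zpowers_iff.1 hb
      rw [← heq, show b = (⟨j, hjL⟩ : L) ^ i from Subtype.ext (by simp [hi]), map_zpow]
      exact zpow_mem (mem_zpowers _) _
    have hc := central_of_comm hF (e ⟨a, ha⟩) fun g => by
      obtain ⟨l, rfl⟩ := e.surjective g
      rw [← map_inv, ← map_inv, ← map_mul, ← map_mul, ← map_mul]
      exact hmem _ (h l l.2)
    rw [← heq] at hc
    obtain ⟨i, hi⟩ := mem_zpowers_iff.1 hc
    rw [← map_zpow] at hi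
    have hia : ((⟨j, hjL⟩ : L) ^ i : L) = (⟨a, ha⟩ : L) := e.injective hi
    have h2 := congrArg Subtype.val hia
    simp only [SubgroupClass.coe_zpow] at h2
    exact h2 ▸ zpow_mem (mem_zpowers j) i

/-- The factor of `M` in `L` modulo the partner `L'`. -/
def part (M L L' : Subgroup G) (hc : ∀ x ∈ L, ∀ y ∈ L', x * y = y * x) : Subgroup G where
  carrier := {a | a ∈ L ∧ ∃ b ∈ L', a * b ∈ M}
  one_mem' := ⟨L.one_mem, 1, L'.one_mem, by simp⟩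
  mul_mem' := by
    rintro a a' ⟨ha, b, hb, hm⟩ ⟨ha', b', hb', hm'⟩
    refine ⟨mul_mem ha ha', b * b', mul_mem hb hb', ?_⟩
    rw [show a * a' * (b * b') = a * (a' * b) * b' by group, hc a' ha' b hb,
      show a * (b * a') * b' = a * b * (a' * b') by group]
    exact mul_mem hm hm'
  inv_mem' := by
    rintro a ⟨ha, b, hb, hm⟩
    refine ⟨inv_mem ha, b⁻¹, inv_mem hb, ?_⟩
    rw [← mul_inv_rev, ← hc a ha b hb]
    exact inv_mem hm

/-- Elements of the join of commuting subgroups. -/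
theorem mem_sup_commute {A B : Subgroup G} (hAB : ∀ x ∈ A, ∀ y ∈ B, x * y = y * x) {z : G} (hz : z ∈ A ⊔ B) :
    ∃ a ∈ A, ∃ b ∈ B, z = a * b := by
  have hle : A ⊔ B ≤
      { carrier := {z | ∃ a ∈ A, ∃ b ∈ B, z = a * b}
        one_mem' := ⟨1, A.one_mem, 1, B.one_mem, by simp⟩
        mul_mem' := by
          rintro _ _ ⟨a, ha, b, hb, rfl⟩ ⟨a', ha', b', hb', rfl⟩
          refine ⟨a * a', mul_mem ha ha', b * b', mul_mem hb hb', ?_⟩
          rw [show a * b * (a' * b') = a * (b * a') * b' by group, ← hAB a' ha' b hb]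
          group
        inv_mem' := by
          rintro _ ⟨a, ha, b, hb, rfl⟩
          exact ⟨a⁻¹, inv_mem ha, b⁻¹, inv_mem hb, by rw [hAB a ha b hb, mul_inv_rev]⟩ } :=
    sup_le (fun a ha => ⟨a, ha, 1, B.one_mem, by simp⟩) (fun b hb => ⟨1, A.one_mem, b, hb, by simp⟩)
  exact hle hz

theorem two_lt_card (F : Type*) [Field F] [Fintype F] :
    2 < Nat.card (Matrix.SpecialLinearGroup (Fin 2) F) := by
  rw [card_sl]
  have h2 : 2 ≤ Fintype.card F := Fintype.one_lt_card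
  have h3 : 3 ≤ Fintype.card F ^ 2 - 1 := by
    have : 2 ^ 2 ≤ Fintype.card F ^ 2 := Nat.pow_le_pow_left h2 2
    omega
  calc 2 < 3 * 2 := by norm_num
    _ ≤ _ := Nat.mul_le_mul h3 h2

theorem le_or_le_of_factor {L₁ L₂ M₁ M₂ : Subgroup G} {j : G}
    (hc : ∀ x ∈ L₁, ∀ y ∈ L₂, x * y = y * x) (hm : L₁ ⊓ L₂ = zpowers j)
    (hcM : ∀ x ∈ M₁, ∀ y ∈ M₂, x * y = y * x)
    (hjM : j ∈ M₁) (hjc : ∀ l ∈ L₁, l * j = j * l) (hM1 : M₁ ≤ L₁ ⊔ L₂) (hM2 : M₂ ≤ L₁ ⊔ L₂)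
    (hL : L₁ ≤ M₁ ⊔ M₂) (hnorm₁ : ∀ x ∈ L₁, ∀ y ∈ M₁, x * y * x⁻¹ ∈ M₁)
    (hnorm₂ : ∀ x ∈ L₁, ∀ y ∈ M₂, x * y * x⁻¹ ∈ M₂) (hf : Factor L₁ j) :
    M₁ ≤ L₂ ∨ M₂ ≤ L₂ := by
  have hjL2 : zpowers j ≤ L₂ := hm ▸ inf_le_right
  have hjL1 : j ∈ L₁ := (hm.symm ▸ mem_zpowers j : j ∈ L₁ ⊓ L₂).1
  have hdec := fun (A B : Subgroup G) (hAB : ∀ x ∈ A, ∀ y ∈ B, x * y = y * x) z (hz : z ∈ A ⊔ B) =>
    mem_sup_commute hAB hz
  have hpc : ∀ M : Subgroup G, (∀ x ∈ L₁, ∀ y ∈ M, x * y * x⁻¹ ∈ M) → ∀ l ∈ L₁, ∀ a ∈ part M L₁ L₂ hc,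
      l * a * l⁻¹ ∈ part M L₁ L₂ hc := by
    rintro M hM l hl a ⟨ha, b, hb, hab⟩
    refine ⟨mul_mem (mul_mem hl ha) (inv_mem hl), b, hb, ?_⟩
    rw [mul_assoc _ l⁻¹ b, hc _ (inv_mem hl) b hb, show l * a * (b * l⁻¹) = l * (a * b) * l⁻¹ by group]
    exact hM l hl _ hab
  have hgen : ∀ l ∈ L₁, ∃ a ∈ part M₁ L₁ L₂ hc, ∃ b ∈ part M₂ L₁ L₂ hc, l = a * b := by
    intro l hl
    obtain ⟨m₁, h1, m₂, h2, he⟩ := hdec _ _ hcM l (hL hl)
    obtain ⟨a₁, ha₁, b₁, hb₁, e1⟩ := hdec _ _ hc m₁ (hM1 h1)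
    obtain ⟨a₂, ha₂, b₂, hb₂, e2⟩ := hdec _ _ hc m₂ (hM2 h2)
    have hz : (a₁ * a₂)⁻¹ * l = b₁ * b₂ := by
      rw [he, e1, e2, show a₁ * b₁ * (a₂ * b₂) = a₁ * (b₁ * a₂) * b₂ by group, ← hc a₂ ha₂ b₁ hb₁]
      group
    have hzj : (a₁ * a₂)⁻¹ * l ∈ zpowers j := by
      rw [← hm, Subgroup.mem_inf]
      exact ⟨mul_mem (inv_mem (mul_mem ha₁ ha₂)) hl, by rw [hz]; exact mul_mem hb₁ hb₂⟩
    set w := (a₁ * a₂)⁻¹ * l with hw
    have hwM : w ∈ part M₁ L₁ L₂ hc := ⟨(zpowers_le.2 hjL1) hzj, 1, L₂.one_mem, by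
      rw [mul_one]; exact (zpowers_le.2 hjM) hzj⟩
    refine ⟨w * a₁, mul_mem hwM ⟨ha₁, b₁, hb₁, e1 ▸ h1⟩, a₂, ⟨ha₂, b₂, hb₂, e2 ▸ h2⟩, ?_⟩
    have hwc : w * (a₁ * a₂) = a₁ * a₂ * w := by
      obtain ⟨i, hi⟩ := mem_zpowers_iff.1 hzj
      rw [← hi]
      exact ((Commute.zpow_right (hjc _ (mul_mem ha₁ ha₂)) i).symm).eq
    rw [mul_assoc, hwc, hw, mul_inv_cancel_left]
  have key : ∀ M N : Subgroup G, (∀ x ∈ M, ∀ y ∈ N, x * y = y * x) → part M L₁ L₂ hc = L₁ →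
      N ≤ L₁ ⊔ L₂ → N ≤ L₂ := by
    intro M N hMN hM hN m hmN
    obtain ⟨a, ha, b, hb, rfl⟩ := hdec _ _ hc m (hN hmN)
    refine mul_mem (hjL2 (hf.central a ha fun l hl => ?_)) hb
    obtain ⟨-, b', hb', hlb⟩ := (hM.symm ▸ hl : l ∈ part M L₁ L₂ hc)
    have h := hMN _ hlb _ hmN
    rw [show l * b' * (a * b) = l * (b' * a) * b by group, ← hc a ha b' hb',
      show a * b * (l * b') = a * (b * l) * b' by group, ← hc l hl b hb,
      show l * (a * b') * b = l * a * (b' * b) by group,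
      show a * (l * b) * b' = a * l * (b * b') by group] at h
    have h2 : a * l * a⁻¹ * l⁻¹ = b' * b * (b * b')⁻¹ := by
      have h3 : (l * a)⁻¹ * (a * l) = b' * b * (b * b')⁻¹ := by
        rw [eq_mul_inv_iff_mul_eq, mul_assoc, ← h, inv_mul_cancel_left]
      have hcent : b' * b * (b * b')⁻¹ ∈ zpowers j := by
        rw [← hm, Subgroup.mem_inf]
        exact ⟨h3 ▸ mul_mem (inv_mem (mul_mem hl ha)) (mul_mem ha hl),
          mul_mem (mul_mem hb' hb) (inv_mem (mul_mem hb hb'))⟩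
      obtain ⟨i, hi⟩ := mem_zpowers_iff.1 hcent
      rw [← hi] at h3 ⊢
      have hci : (l * a) * j ^ i = j ^ i * (l * a) := (Commute.zpow_right (hjc _ (mul_mem hl ha)) i).eq
      have : a * l = j ^ i * (l * a) := by rw [← hci, ← h3, mul_inv_cancel_left]
      calc a * l * a⁻¹ * l⁻¹ = a * l * (l * a)⁻¹ := by group
        _ = j ^ i := by rw [this, mul_inv_cancel_right]
    rw [← hm, Subgroup.mem_inf]
    exact ⟨mul_mem (mul_mem (mul_mem ha hl) (inv_mem ha)) (inv_mem hl),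
      h2 ▸ mul_mem (mul_mem hb' hb) (inv_mem (mul_mem hb hb'))⟩
  rcases hf.join (part M₁ L₁ L₂ hc) (part M₂ L₁ L₂ hc) (fun _ h => h.1) (fun _ h => h.1) (hpc M₁ hnorm₁) (hpc M₂ hnorm₂) hgen with h | h
  · exact Or.inr (key M₁ M₂ hcM h hM2)
  · exact Or.inl (key M₂ M₁ (fun x hx y hy => (hcM y hy x hx).symm) h hM1)

end Cfsg.SLPair
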